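import Groth.Agent.An.H863.PtsCont
import Groth.Agent.An.H867.Nhds
import Groth.Agent.An.H871.Imm
import Mathlib.AlgebraicGeometry.AffineSpace
import Mathlib.Topology.Algebra.MvPolynomial

/-!
# Topology of the complex points of an affine scheme of finite type

Closed embedding in `ℂⁿ` given by generators, local compactness, affine space.
-/

set_option autoImplicit false
open CategoryTheory AlgebraicGeometry Topology TopologicalSpace Opposite Filter
open Groth.Agent.An.H863.PtsBasic Groth.Agent.An.H863.PtsCont

noncomputable section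

namespace Groth.Agent.An.H862.AffTop

variable {X : Scheme.{0}} [X.Over An.SC]

lemma strU_top : strU (X := X) ⊤ = An.strHom X := by
  ext c
  change X.presheaf.map (homOfLE le_top).op (An.strHom X c) = An.strHom X c
  have : (homOfLE (le_top : (⊤ : X.Opens) ≤ ⊤)).op = 𝟙 (op ⊤) := rfl
  rw [this, CategoryTheory.Functor.map_id]
  rfl

/-- Polynomial in the values. -/
lemma ev_eval₂Hom (x : An.Pts X) (U : X.Opens) (h : x.pt ∈ U) {ι : Type*} (s : ι → Γ(X, U))
    (p : MvPolynomial ι ℂ) :
    x.ev U h (MvPolynomial.eval₂Hom (strU U) s p) =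
      MvPolynomial.eval (fun i => x.ev U h (s i)) p := by
  rw [← evHom_apply]
  change (evHom x U h) (MvPolynomial.eval₂ (strU U) s p) = _
  rw [MvPolynomial.hom_eval₂, Groth.Agent.An.H867.Nhds.evHom_comp_strU]
  rfl

/-- Embedding: coordinates given by generators of the coordinate ring of an affine open. -/
lemma isClosedEmbedding_opens [LocallyOfFiniteType (X ↘ An.SC)] (U : X.Opens)
    (hUa : IsAffineOpen U) {ι : Type*} (s : ι → Γ(X, U))
    (hs : Function.Surjective (MvPolynomial.eval₂Hom (strU U) s)) :
    IsClosedEmbedding (fun (x : {x : An.Pts X // x.pt ∈ U}) (i : ι) => x.1.ev U x.2 (s i)) := by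
  set F : {x : An.Pts X // x.pt ∈ U} → (ι → ℂ) := fun x i => x.1.ev U x.2 (s i) with hF
  have hFev : ∀ (x : {x : An.Pts X // x.pt ∈ U}) (p : MvPolynomial ι ℂ),
      x.1.ev U x.2 (MvPolynomial.eval₂Hom (strU U) s p) = MvPolynomial.eval (F x) p :=
    fun x p => ev_eval₂Hom x.1 U x.2 s p
  have hcont : Continuous F := by
    refine continuous_pi fun i => ?_
    exact Groth.Agent.An.H871.Imm.continuousOn_ev U (s i)
  have hinj : Function.Injective F := by
    intro x y hxy
    have h1 : ∀ f, x.1.ev U x.2 f = y.1.ev U y.2 f := by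
      intro f
      obtain ⟨p, rfl⟩ := hs f
      rw [hFev, hFev, hxy]
    apply Subtype.ext
    apply pt_injective
    have h2 : Groth.Agent.An.H867.Alg.kerPt (evHom x.1 U x.2) =
        Groth.Agent.An.H867.Alg.kerPt (evHom y.1 U y.2) := by
      congr 1
      ext f
      exact h1 f
    rw [← Groth.Agent.An.H867.Nhds.fromSpec_kerPt x.1 U hUa x.2,
      ← Groth.Agent.An.H867.Nhds.fromSpec_kerPt y.1 U hUa y.2, h2]
  have hrange : Set.range F = {z | ∀ p : MvPolynomial ι ℂ,
      MvPolynomial.eval₂Hom (strU U) s p = 0 → MvPolynomial.eval z p = 0} := by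
    ext z
    constructor
    · rintro ⟨x, rfl⟩ p hp
      rw [← hFev, hp, ev_zero]
    · intro hz
      let φ : Γ(X, U) →+* ℂ :=
        RingHom.liftOfSurjective (MvPolynomial.eval₂Hom (strU U) s) hs
          ⟨MvPolynomial.eval z, by
            intro p hp
            exact hz p hp⟩
      have hφ : ∀ p, φ (MvPolynomial.eval₂Hom (strU U) s p) = MvPolynomial.eval z p := by
        intro p
        exact RingHom.liftOfRightInverse_comp_apply _ _ _ _ p
      have hφc : ∀ c, φ (strU U c) = c := by
        intro c
        have := hφ (MvPolynomial.C c)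
        rw [MvPolynomial.coe_eval₂Hom, MvPolynomial.eval₂_C, MvPolynomial.eval_C] at this
        exact this
      obtain ⟨x, hx, hev⟩ := Groth.Agent.An.H867.Nhds.exists_pts_of_ringHom U hUa φ hφc
      refine ⟨⟨x, hx⟩, ?_⟩
      funext i
      change x.ev U hx (s i) = z i
      rw [← evHom_apply, hev]
      have := hφ (MvPolynomial.X i)
      rw [MvPolynomial.coe_eval₂Hom, MvPolynomial.eval₂_X, MvPolynomial.eval_X] at this
      exact this
  have hclosed : IsClosed (Set.range F) := by
    rw [hrange]
    have : {z : ι → ℂ | ∀ p : MvPolynomial ι ℂ,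
        MvPolynomial.eval₂Hom (strU U) s p = 0 → MvPolynomial.eval z p = 0} =
        ⋂ (p : MvPolynomial ι ℂ) (_ : MvPolynomial.eval₂Hom (strU U) s p = 0),
          {z | MvPolynomial.eval z p = 0} := by
      ext z
      simp
    rw [this]
    refine isClosed_iInter fun p => isClosed_iInter fun _ => ?_
    exact isClosed_eq (MvPolynomial.continuous_eval p) continuous_const
  have hind : IsInducing F := by
    rw [isInducing_iff_nhds]
    intro x₀
    apply le_antisymm
    · exact hcont.continuousAt.tendsto.le_comap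
    · -- the identity, from the induced topology, is continuous
      let τ : TopologicalSpace {x : An.Pts X // x.pt ∈ U} := TopologicalSpace.induced F inferInstance
      have hc : @ContinuousAt _ _ τ _ (fun x : {x : An.Pts X // x.pt ∈ U} => x.1) x₀ := by
        refine continuousAt_of_affine_gen (T := {x : An.Pts X // x.pt ∈ U}) _ x₀ U hUa
          (Filter.Eventually.of_forall fun x => x.2) s hs fun i => ?_
        have h1 : (fun x : {x : An.Pts X // x.pt ∈ U} => evAt x.1 U (s i)) = fun x => F x i := by
          funext x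
          rw [evAt_of_mem x.2]
        rw [h1]
        have h2 : @Continuous _ _ τ _ F := continuous_induced_dom
        exact ((continuous_apply i).comp h2).continuousAt
      have h3 : @nhds _ τ x₀ = Filter.comap F (𝓝 (F x₀)) := nhds_induced F x₀
      rw [← h3, nhds_subtype_eq_comap]
      exact hc.tendsto.le_comap
  exact ⟨⟨hind, hinj⟩, hclosed⟩

/-- An affine scheme: closed embedding given by generators. -/
theorem isClosedEmbedding_evTop [IsAffine X] [LocallyOfFiniteType (X ↘ An.SC)] {ι : Type*}
    (s : ι → Γ(X, ⊤)) (hs : Function.Surjective (MvPolynomial.eval₂Hom (An.strHom X) s)) :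
    IsClosedEmbedding (fun (x : An.Pts X) (i : ι) => x.evTop (s i)) := by
  have h1 := isClosedEmbedding_opens (X := X) ⊤ (isAffineOpen_top X) s (by rw [strU_top]; exact hs)
  let e : An.Pts X ≃ₜ {x : An.Pts X // x.pt ∈ (⊤ : X.Opens)} :=
    { toFun := fun x => ⟨x, Opens.mem_top _⟩
      invFun := Subtype.val
      left_inv := fun _ => rfl
      right_inv := fun _ => rfl
      continuous_toFun := continuous_id.subtype_mk _
      continuous_invFun := continuous_subtype_val }
  have h2 : (fun (x : An.Pts X) (i : ι) => x.evTop (s i)) =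
      (fun (x : {x : An.Pts X // x.pt ∈ (⊤ : X.Opens)}) (i : ι) => x.1.ev ⊤ x.2 (s i)) ∘ e := rfl
  rw [h2]
  exact h1.comp e.isClosedEmbedding

/-- Generators of the coordinate ring of an affine open, indexed by a finite type. -/
lemma exists_gen [LocallyOfFiniteType (X ↘ An.SC)] (U : X.Opens) (hUa : IsAffineOpen U) :
    ∃ (n : ℕ) (s : Fin n → Γ(X, U)), Function.Surjective (MvPolynomial.eval₂Hom (strU U) s) := by
  letI := (strU (X := X) U).toAlgebra
  have h1 : Algebra.FiniteType ℂ Γ(X, U) := Groth.Agent.An.H867.Nhds.finiteType_strU U hUa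
  obtain ⟨n, f, hf⟩ := Algebra.FiniteType.iff_quotient_mvPolynomial''.1 h1
  refine ⟨n, fun i => f (MvPolynomial.X i), ?_⟩
  have h2 : MvPolynomial.eval₂Hom (strU U) (fun i => f (MvPolynomial.X i)) = f.toRingHom := by
    refine MvPolynomial.ringHom_ext (fun c => ?_) (fun i => ?_)
    · rw [MvPolynomial.coe_eval₂Hom, MvPolynomial.eval₂_C]
      exact (f.commutes c).symm
    · rw [MvPolynomial.coe_eval₂Hom, MvPolynomial.eval₂_X]
      rfl
  rw [h2]
  exact hf

/-- The complex points of a scheme locally of finite type form a locally compact space. -/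
theorem locallyCompactSpace [LocallyOfFiniteType (X ↘ An.SC)] : LocallyCompactSpace (An.Pts X) := by
  have key : ∀ x : An.Pts X, ∃ s ∈ 𝓝 x, LocallyCompactSpace s := by
    intro x
    obtain ⟨U, hU, hxU, -⟩ := (X.isBasis_affineOpens.exists_subset_of_mem_open
      (Set.mem_univ x.pt) isOpen_univ)
    obtain ⟨U, hUa, rfl⟩ := hU
    obtain ⟨n, s, hs⟩ := exists_gen U hUa
    refine ⟨An.Pts.pt ⁻¹' (U : Set X), (An.Pts.isOpen_preimage_pt U).mem_nhds hxU, ?_⟩
    exact (isClosedEmbedding_opens U hUa s hs).locallyCompactSpace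
  constructor
  intro x n hn
  obtain ⟨s, hs, hc⟩ := key x
  have hx : x ∈ s := mem_of_mem_nhds hs
  have h1 : (Subtype.val : s → An.Pts X) ⁻¹' n ∈ 𝓝 (⟨x, hx⟩ : s) :=
    continuous_subtype_val.continuousAt.preimage_mem_nhds hn
  obtain ⟨K, hK, hKn, hKc⟩ := local_compact_nhds h1
  refine ⟨Subtype.val '' K, ?_, Set.image_subset_iff.2 hKn, hKc.image continuous_subtype_val⟩
  rw [nhds_subtype_eq_comap] at hK
  obtain ⟨t, ht, htK⟩ := hK
  filter_upwards [ht, hs] with y hy hys
  exact ⟨⟨y, hys⟩, htK hy, rfl⟩

end Groth.Agent.An.H862.AffTop
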