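import Groth.Prelude.Def_AnEps
import Groth.Agent.S4212
import Groth.Agent.An.H884.ClBC
import Groth.Agent.An.H890.SqPush
import Groth.Agent.An.H890.ULiftSite
import Groth.Agent.An.H890.Compare

/-!
# Higher direct images on classical sites and on spaces

`nonempty_resPush f q : (pushCl f).rightDerived q ⋙ resOpens T' ≅ resOpens T ⋙ RpushTop f q`.
-/

set_option autoImplicit false

open CategoryTheory CategoryTheory.Limits TopologicalSpace Topology Opposite An
open Groth.Agent.An.H884.ClBC Groth.Agent.An.H890.SqPush Groth.Agent.An.H890.ULiftSite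

noncomputable section

namespace Groth.Agent.An.H862.FinTop

variable {T T' : Type} [TopologicalSpace T] [TopologicalSpace T'] (f : C(T, T'))

lemma toClBC_mem (V : Opens T') (q : (bcObj f ((opensToCl T').obj V)).E) :
    q.1.1 ∈ (Opens.map (TopCat.ofHom f)).obj V := by
  have h : f q.1.1 = q.1.2.1 := q.2
  change f q.1.1 ∈ V
  rw [h]
  exact q.1.2.2

/-- The comparison `f⁻¹ V ≅ T ×_{T'} V`. -/
def toClBC : opensToCl T' ⋙ clBC f ≅ Opens.map (TopCat.ofHom f) ⋙ opensToCl T :=
  NatIso.ofComponents (fun V =>
    { hom := ⟨fun q => ⟨q.1.1, toClBC_mem f V q⟩,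
        (continuous_fst.comp continuous_subtype_val).subtype_mk _, fun _ => rfl⟩
      inv := ⟨fun t => ⟨(t.1, ⟨f t.1, t.2⟩), rfl⟩,
        Continuous.subtype_mk (continuous_subtype_val.prodMk
          ((f.continuous.comp continuous_subtype_val).subtype_mk _)) _, fun _ => rfl⟩
      hom_inv_id := An.Cl.hom_ext (funext fun q => Subtype.ext (Prod.ext rfl (Subtype.ext q.2)))
      inv_hom_id := rfl })
    (fun _ => rfl)

variable [OpCont T] [OpCont T']

instance isContinuous_map : (Opens.map (TopCat.ofHom f)).IsContinuous
    (Opens.grothendieckTopology T') (Opens.grothendieckTopology T) :=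
  Functor.isContinuous_of_coverPreserving (compatiblePreserving_opens_map (TopCat.ofHom f))
    (coverPreserving_opens_map (TopCat.ofHom f))

/-- `resOpens` commutes with direct images. -/
def resPush : pushCl f ⋙ resOpens T' ≅ resOpens T ⋙ pushTop f :=
  sqPush (F := opensToCl T') (H := clBC f) (K := Opens.map (TopCat.ofHom f)) (G := opensToCl T)
    (toClBC f) AddCommGrpCat.{1} (Opens.grothendieckTopology T') (Cl.topology T')
    (Opens.grothendieckTopology T) (Cl.topology T)

instance isEquivalence_resOpens : (resOpens T).IsEquivalence := Groth.Agent.S4212.result T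

instance pushCl_additive : (pushCl f).Additive where

instance pushCl_preservesFiniteLimits : PreservesFiniteLimits (pushCl f) :=
  have : PreservesLimitsOfSize.{0, 0} (pushCl f) := (adjCl f).rightAdjoint_preservesLimits
  PreservesLimitsOfSize.preservesFiniteLimits _

instance pushTop_preservesFiniteLimits : PreservesFiniteLimits (pushTop f) := by
  have e : (resOpens T).inv ⋙ pushCl f ⋙ resOpens T' ≅ pushTop f :=
    Functor.isoWhiskerLeft _ (resPush f) ≪≫ (Functor.associator _ _ _).symm ≪≫
      Functor.isoWhiskerRight (resOpens T).asEquivalence.counitIso _ ≪≫ Functor.leftUnitor _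
  exact preservesFiniteLimits_of_natIso e

/-- `resOpens` commutes with higher direct images. -/
theorem nonempty_resPush (q : ℕ) :
    Nonempty ((ObjectProperty.ι (fun _ : Cl.Ab T => True)) ⋙ (pushCl f).rightDerived q ⋙ resOpens T' ≅
      (ObjectProperty.ι (fun _ : Cl.Ab T => True)) ⋙ resOpens T ⋙ RpushTop f q) := by
  have : (resOpens T).Additive := Functor.additive_of_preserves_binary_products _
  have : (resOpens T').Additive := Functor.additive_of_preserves_binary_products _
  refine Groth.Agent.An.H890.Compare.nonempty_natIso (pushCl f) (resOpens T') (resOpens T) (pushTop f)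
    (resPush f).hom (fun _ => True) (fun _ _ _ => trivial) (fun F _ => inferInstance) (fun F _ => ?_) q
  refine ⟨Injective.under F, Injective.ι F, inferInstance, trivial, fun q hq => ?_⟩
  obtain ⟨q, rfl⟩ : ∃ m, q = m + 1 := ⟨q - 1, by omega⟩
  have : Injective ((resOpens T).obj (Injective.under F)) := by
    have := (resOpens T).asEquivalence.map_injective_iff (P := Injective.under F)
    exact this.2 inferInstance
  exact ⟨Functor.isZero_rightDerived_obj_injective_succ _ _ _,
    Functor.isZero_rightDerived_obj_injective_succ _ _ _⟩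

end Groth.Agent.An.H862.FinTop
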