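import Groth.Agent.An.H862.Fin
import Groth.Agent.An.H862.FinTop
import Groth.Agent.Etrest.DEtPush

/-!
# The last step of the comparison theorem

`nonempty_of_BC`: if for a commutation isomorphism `c : ε_S^* ⋙ f(ℂ)^* ≅ f^* ⋙ ε_X^*` derived base
change `(RPair.sq c).BC (F[0])` holds for all `F` in a class `P`, then
`P.ι ⋙ R^q f_* ⋙ an ≅ P.ι ⋙ an ⋙ R^q f(ℂ)_*`.
-/

set_option autoImplicit false
open CategoryTheory CategoryTheory.Limits TopologicalSpace Topology Opposite AlgebraicGeometry An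
open Groth.Agent.An.H884.ClBC Groth.Agent.An.H890.SqPush Groth.Agent.An.H890.ULiftSite
open Groth.Agent.Etrest Groth.Agent.Etrest.RDer3 Groth.Agent.Etrest.RDer4 Groth.Agent.Etrest.RDer5

attribute [local instance] HasDerivedCategory.standard

noncomputable section

namespace Groth.Agent.An.H862.FinAn

universe v u

theorem hasKInj (A : Type u) [Category.{v} A] [Abelian A] [IsGrothendieckAbelian.{v} A] : HasKInj A where
  out K := by
    obtain ⟨I, f, h1, h2, -⟩ := Groth.Agent.S0476.result K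
    exact ⟨I, f, h1, h2⟩

instance hasKInj_cl (T : Type) [TopologicalSpace T] : HasKInj (Cl.Ab T) := hasKInj _

variable {X S : Scheme.{0}} [X.Over An.SC] [S.Over An.SC]
    [LocallyOfFiniteType (X ↘ An.SC)] [LocallyOfFiniteType (S ↘ An.SC)] [Fact An.EtaleLH]
    [An.EpsCont X] [An.EpsCont S] [An.OpCont (An.Pts X)] [An.OpCont (An.Pts S)]
    (f : X ⟶ S) [f.IsOver An.SC]

/-- The last step of the comparison theorem. -/
theorem nonempty_of_BC [PreservesFiniteLimits (An.epsPull X)] [PreservesFiniteLimits (An.epsPull S)]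
    [PreservesFiniteLimits (pullCl (An.Pts.mapC f))] [PreservesFiniteColimits (pullCl (An.Pts.mapC f))]
    [(pullCl (An.Pts.mapC f)).Additive]
    (c : An.epsPull S ⋙ pullCl (An.Pts.mapC f) ≅ EtCoh.pull f ⋙ An.epsPull X)
    (P : ObjectProperty (EtCoh.Ab X))
    (h : ∀ F, P F → (Sga4h.RPair.sq c).BC ((DerivedCategory.singleFunctor (EtCoh.Ab X) 0).obj F))
    (q : ℕ) :
    Nonempty (P.ι ⋙ EtCoh.Rpush f q ⋙ An.anF S ≅
      P.ι ⋙ An.anF X ⋙ An.RpushTop (An.Pts.mapC f) q) := by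
  obtain ⟨e₁⟩ := Fin.nonempty_natIso_of_BC (EtCoh.pullPushAdj f) (adjCl (An.Pts.mapC f)) c P h q
  obtain ⟨e₂⟩ := FinTop.nonempty_resPush (An.Pts.mapC f) q
  let j : P.FullSubcategory ⥤ (ObjectProperty.FullSubcategory (fun _ : Cl.Ab (An.Pts X) => True)) :=
    ObjectProperty.lift _ (P.ι ⋙ An.epsPull X) (fun _ => trivial)
  exact ⟨(Functor.isoWhiskerRight e₁ (An.resOpens (An.Pts S)) :
      (P.ι ⋙ EtCoh.Rpush f q ⋙ An.epsPull S) ⋙ An.resOpens (An.Pts S) ≅
      (P.ι ⋙ An.epsPull X ⋙ (pushCl (An.Pts.mapC f)).rightDerived q) ⋙ An.resOpens (An.Pts S)) ≪≫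
    Functor.isoWhiskerLeft j e₂⟩

end Groth.Agent.An.H862.FinAn
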