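import Groth.Agent.An.H495.CompCalc
import Groth.Agent.An.H862.FinAn
import Groth.Agent.An.H891.CompSq
import Groth.Agent.EtpbcA.KilledBy
import Groth.Agent.EtpbcA.StrataGlob

/-!
# Assembly of the comparison theorem for constructible sheaves

* `CP s f K`: the comparison `Comp f K` for the structures over `ℂ` given by `s` and `f ≫ s`;
* `comp_of_cp`: from `CP (S ↘ SC) f K` to `Comp f K`;
* `of_main`: the milestone from the case of admissible complexes and locality on the target.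
-/

set_option autoImplicit false
set_option linter.unusedSectionVars false
open CategoryTheory CategoryTheory.Limits AlgebraicGeometry Opposite TopologicalSpace Topology An

attribute [local instance] HasDerivedCategory.standard

noncomputable section
namespace Groth.Agent.An.H862.Asm4219

open Groth.Agent.Etrest.DEtPush Groth.Agent.Sga4h.AdmCx Groth.Agent.Sga4h.IndCalc
  Groth.Agent.An.H891.CompSq Groth.Agent.An.H890.ULiftSite
open DerivedCategory (homologyFunctor singleFunctor)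

/-- The comparison for the structures given by `s` and `f ≫ s`. -/
def CP {X Y : Scheme.{0}} (s : Y ⟶ An.SC) (f : X ⟶ Y) (K : DCoh.DEt X) : Prop :=
  ∀ [LocallyOfFiniteType s] [LocallyOfFiniteType f] [QuasiCompact f],
    letI : X.Over An.SC := ⟨f ≫ s⟩
    letI : Y.Over An.SC := ⟨s⟩
    haveI : f.IsOver An.SC := ⟨rfl⟩
    haveI : LocallyOfFiniteType (X ↘ An.SC) := inferInstanceAs (LocallyOfFiniteType (f ≫ s))
    haveI : LocallyOfFiniteType (Y ↘ An.SC) := inferInstanceAs (LocallyOfFiniteType s)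
    Comp f K

theorem comp_of_cp {X S : Scheme.{0}} [iX : X.Over An.SC] [iS : S.Over An.SC]
    [LocallyOfFiniteType (X ↘ An.SC)] [LocallyOfFiniteType (S ↘ An.SC)]
    (f : X ⟶ S) [hf : f.IsOver An.SC] [QuasiCompact f] (K : DCoh.DEt X)
    (h : CP (S ↘ An.SC) f K) : Comp f K := by
  obtain ⟨x⟩ := iX
  obtain ⟨s⟩ := iS
  have e : f ≫ s = x := hf.comp_over
  subst e
  have h3 : LocallyOfFiniteType s := by assumption
  have h2 : LocallyOfFiniteType (f ≫ s) := by assumption
  have h1 : LocallyOfFiniteType f := locallyOfFiniteType_of_comp f s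
  exact @h h3 h1 _

section

variable
  (main : ∀ (m : ℕ), 0 < m → ∀ {X Y : Scheme.{0}} (s : Y ⟶ An.SC) (f : X ⟶ Y) [FT s] [FT f]
    (K : DCoh.DEt X), Adm m K → CP s f K)
  (target : ∀ {X Y : Scheme.{0}} (s : Y ⟶ An.SC) (f : X ⟶ Y) [LocallyOfFiniteType s] [FT f] {ι : Type}
    (Y' X' : ι → Scheme.{0}) (j : ∀ i, Y' i ⟶ Y) [∀ i, IsOpenImmersion (j i)] (f' : ∀ i, X' i ⟶ Y' i)
    (j' : ∀ i, X' i ⟶ X), (∀ i, IsPullback (j' i) (f' i) f (j i)) → (∀ y : Y, ∃ i, y ∈ Set.range (j i)) →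
    ∀ (K : DCoh.DEt X), (∀ i, CP (j i ≫ s) (f' i) ((pullD (j' i)).obj K)) → CP s f K)
  (of_iso : ∀ {X Y : Scheme.{0}} {s : Y ⟶ An.SC} {f : X ⟶ Y} {K L : DCoh.DEt X},
    (K ≅ L) → CP s f K → CP s f L)

include main target of_iso in
theorem cp_single {X Y : Scheme.{0}} (s : Y ⟶ An.SC) [LocallyOfFiniteType s] (f : X ⟶ Y) [FT f]
    (F : EtCoh.Ab X) (hF : EtPBC.IsConstructible F) : CP s f ((singleFunctor _ 0).obj F) := by
  refine target s f (ι := Y.affineOpens) (fun V => V.1.toScheme) (fun V => (f ⁻¹ᵁ V.1).toScheme)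
    (fun V => V.1.ι) (fun V => f ∣_ V.1) (fun V => (f ⁻¹ᵁ V.1).ι)
    (fun V => (isPullback_morphismRestrict f V.1).flip) (fun y => ?_) _ (fun V => ?_)
  · obtain ⟨V, hV, hy, -⟩ := Opens.isBasis_iff_nbhd.mp Y.isBasis_affineOpens
      (show y ∈ (⊤ : Y.Opens) from trivial)
    exact ⟨⟨V, hV⟩, by rw [Scheme.Opens.range_ι]; exact hy⟩
  · have hV : IsAffine V.1.toScheme := V.2
    have h1 : LocallyOfFiniteType (f ∣_ V.1) := MorphismProperty.of_isPullback
      (P := @LocallyOfFiniteType) (isPullback_morphismRestrict f V.1).flip inferInstance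
    have h2 : QuasiCompact (f ∣_ V.1) := MorphismProperty.of_isPullback
      (P := @QuasiCompact) (isPullback_morphismRestrict f V.1).flip inferInstance
    have h3 : FT (f ∣_ V.1) := FT.of _
    have h4 : QuasiCompact (V.1.ι ≫ s) := inferInstance
    have h5 : FT (V.1.ι ≫ s) := FT.of _
    have h6 : QuasiCompact ((f ∣_ V.1) ≫ (V.1.ι ≫ s)) := inferInstance
    have h7 : LocallyOfFiniteType ((f ∣_ V.1) ≫ (V.1.ι ≫ s)) := inferInstance
    have h8 : CompactSpace (f ⁻¹ᵁ V.1).toScheme :=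
      QuasiCompact.compactSpace_of_compactSpace ((f ∣_ V.1) ≫ (V.1.ι ≫ s))
    have h9 : IsLocallyNoetherian (f ⁻¹ᵁ V.1).toScheme :=
      LocallyOfFiniteType.isLocallyNoetherian ((f ∣_ V.1) ≫ (V.1.ι ≫ s))
    have hG := Groth.Agent.EtpbcA.StrataGlob.isConstructible_pull_openImmersion (f ⁻¹ᵁ V.1).ι F hF
    obtain ⟨m, hm, hk⟩ := Groth.Agent.EtpbcA.KilledBy.exists_killedBy_of_isConstructible hG
    have h10 := @main m hm _ _ (V.1.ι ≫ s) (f ∣_ V.1) h5 h3
      ((singleFunctor _ 0).obj ((EtCoh.pull (f ⁻¹ᵁ V.1).ι).obj F))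
      (Adm.single ⟨hG, 1, by rwa [pow_one]⟩ 0)
    exact @of_iso _ _ _ _ _ _
      (((EtCoh.pull (f ⁻¹ᵁ V.1).ι).mapDerivedCategorySingleFunctor 0).app F).symm h10

include main target of_iso in
/-- The comparison theorem for constructible sheaves. -/
theorem of_main (X S : Scheme.{0}) [X.Over An.SC] [S.Over An.SC]
    [LocallyOfFiniteType (X ↘ An.SC)] [LocallyOfFiniteType (S ↘ An.SC)] [Fact An.EtaleLH]
    [An.EpsCont X] [An.EpsCont S] [An.OpCont (An.Pts X)] [An.OpCont (An.Pts S)]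
    (f : X ⟶ S) [f.IsOver An.SC] [QuasiCompact f] (q : ℕ) :
    Nonempty ((ObjectProperty.ι (fun F : EtCoh.Ab X => EtCoh.IsTorsion F ∧ EtPBC.IsConstructible F)) ⋙
        EtCoh.Rpush f q ⋙ An.anF S ≅
      (ObjectProperty.ι (fun F : EtCoh.Ab X => EtCoh.IsTorsion F ∧ EtPBC.IsConstructible F)) ⋙
        An.anF X ⋙ An.RpushTop (An.Pts.mapC f) q) := by
  have h1 : LocallyOfFiniteType f := by
    have h2 : LocallyOfFiniteType (f ≫ (S ↘ An.SC)) := by
      rw [comp_over f An.SC]; infer_instance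
    exact locallyOfFiniteType_of_comp f (S ↘ An.SC)
  have h3 : FT f := FT.of _
  exact FinAn.nonempty_of_BC f (H891.Geom.cmpOf (f := gEt f) (g := gEps S)
      (f' := H891.ClSq.gCl (An.Pts.mapC f)) (g' := gEps X) (gam f)) _
    (fun F hF => comp_of_cp f _ (cp_single main target of_iso (S ↘ An.SC) f F hF.2)) q

end

end Groth.Agent.An.H862.Asm4219
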