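import Groth.Agent.An.H862.ProperField
import Groth.Agent.An.H891.Fields
import Groth.Agent.An.H882.TField
import Groth.Agent.An.H495.CurveGM

/-!
# The comparison theorem for constructible sheaves from its inputs

* `ProperIn`: `PCIn` for all proper morphisms; `GmIn m`: the case `D(X) ⊂ A^1_R`; `MainIn`: the abstract induction;
* `theCalc`: the comparison calculus;
* `comp_of_constructible`: `Comp f (F[0])` for `F` constructible;
* `rpush_of`: the statement on `R^q f_*`.
-/

set_option autoImplicit false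
set_option linter.unusedSectionVars false
open CategoryTheory CategoryTheory.Limits AlgebraicGeometry Opposite TopologicalSpace Topology An

attribute [local instance] HasDerivedCategory.standard

noncomputable section
namespace Groth.Agent.An.H862.Calc4219

open Groth.Agent.Etrest.DEtPush Groth.Agent.Sga4h.AdmCx Groth.Agent.Sga4h.IndCalc
  Groth.Agent.An.H891.ClSq Groth.Agent.An.H891.CompSq Groth.Agent.An.H890.ULiftSite
  Groth.Agent.An.H495 Groth.Agent.An.H891.Fields Groth.Agent.An.H862.Asm4219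
open DerivedCategory (homologyFunctor singleFunctor)

/-- The inputs for all proper morphisms. -/
def ProperIn : Prop := ∀ {X S : Scheme.{0}} [X.Over An.SC] [S.Over An.SC]
  [LocallyOfFiniteType (X ↘ An.SC)] [LocallyOfFiniteType (S ↘ An.SC)] (f : X ⟶ S) [f.IsOver An.SC]
  [IsProper f], ProperField.PCIn f

/-- The case `D(X) ⊂ A^1_R`. -/
def GmIn (m : ℕ) : Prop := ∀ (R : CommRingCat.{0}) (s : Spec R ⟶ An.SC) [FT s] [Smooth s] (ℓ : ℕ),
  ℓ.Prime → ℓ ∣ m → CP (Spec.map (CommRingCat.ofHom (Polynomial.C : R →+* Polynomial R)) ≫ s)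
    (CurveGM.gm R).ι ((singleFunctor _ 0).obj (EtCoh.const _ (ZMod ℓ)))

/-- The abstract induction. -/
def MainIn : Prop := ∀ (m : ℕ) (_ : 0 < m) (C : CompCalc.CompCalc m) {X Y : Scheme.{0}} (s : Y ⟶ An.SC)
  (f : X ⟶ Y) [FT s] [FT f] (K : DCoh.DEt X), Adm m K → C.P s f K

/-- The comparison calculus. -/
def theCalc (HP : ProperIn) (m : ℕ) (hm : 0 < m) (hgm : GmIn m) : CompCalc.CompCalc m :=
  compCalc m (fun s g _ _ K hK => ProperField.proper HP m hm s g K hK)
    (fun s _ p _ w _ t _ hw ht j _ j' w' h K hK hK' h₁ h₂ h₃ =>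
      Groth.Agent.An.H882.TField.tstep_field s p w t hw ht j j' w' h K hK hK' h₁ h₂ h₃)
    (fun s _ _ q _ _ _ j _ i _ _ hij ℓ hℓ hd =>
      CurveGM.curve_of_gm (m := m) CP (fun e h => cp_of_iso e h)
        (fun s g _ _ K hK => ProperField.proper HP m hm s g K hK)
        (fun g _ _ f' g' h _ _ hP => cp_pull_etale g f' g' h hP)
        (fun s f _ _ _ Y' X' j _ f' j' h hj K hP => cp_target s f Y' X' j f' j' h hj K hP)
        (fun R s _ _ ℓ hℓ hd => hgm R s ℓ hℓ hd) s q j i hij ℓ hℓ hd)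

/-- **The comparison for constructible torsion sheaves.** -/
theorem comp_of_constructible (HP : ProperIn) (hgm : ∀ m, 0 < m → GmIn m) (hmain : MainIn)
    {X S : Scheme.{0}} [X.Over An.SC] [S.Over An.SC]
    [LocallyOfFiniteType (X ↘ An.SC)] [LocallyOfFiniteType (S ↘ An.SC)]
    (f : X ⟶ S) [f.IsOver An.SC] [QuasiCompact f] (F : EtCoh.Ab X) (hF : EtPBC.IsConstructible F) :
    Comp f ((singleFunctor _ 0).obj F) := by
  have h1 : LocallyOfFiniteType f := by
    have h2 : LocallyOfFiniteType (f ≫ (S ↘ An.SC)) := by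
      rw [comp_over f An.SC]; infer_instance
    exact locallyOfFiniteType_of_comp f (S ↘ An.SC)
  have h3 : FT f := FT.of _
  exact comp_of_cp f _ (cp_single
    (fun m hm _ _ s f _ _ K hK => hmain m hm (theCalc HP m hm (hgm m hm)) s f K hK)
    (fun s f _ _ _ Y' X' j _ f' j' h hj K hP => cp_target s f Y' X' j f' j' h hj K hP)
    (fun e h => cp_of_iso e h) (S ↘ An.SC) f F hF)

/-- The comparison theorem for `R^q f_*`. -/
theorem rpush_of (HP : ProperIn) (hgm : ∀ m, 0 < m → GmIn m) (hmain : MainIn)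
    (X S : Scheme.{0}) [X.Over An.SC] [S.Over An.SC]
    [LocallyOfFiniteType (X ↘ An.SC)] [LocallyOfFiniteType (S ↘ An.SC)] [Fact An.EtaleLH]
    [An.EpsCont X] [An.EpsCont S] [An.OpCont (An.Pts X)] [An.OpCont (An.Pts S)]
    (f : X ⟶ S) [f.IsOver An.SC] [QuasiCompact f] (q : ℕ) :
    Nonempty ((ObjectProperty.ι (fun F : EtCoh.Ab X => EtCoh.IsTorsion F ∧ EtPBC.IsConstructible F)) ⋙
        EtCoh.Rpush f q ⋙ An.anF S ≅
      (ObjectProperty.ι (fun F : EtCoh.Ab X => EtCoh.IsTorsion F ∧ EtPBC.IsConstructible F)) ⋙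
        An.anF X ⋙ An.RpushTop (An.Pts.mapC f) q) :=
  FinAn.nonempty_of_BC f (H891.Geom.cmpOf (f := gEt f) (g := gEps S)
      (f' := H891.ClSq.gCl (An.Pts.mapC f)) (g' := gEps X) (gam f)) _
    (fun F hF => comp_of_constructible HP hgm hmain f F hF.2) q

end Groth.Agent.An.H862.Calc4219
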