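import Groth.Agent.Sga4h.RPairDer

/-!
# Natural comparison of higher direct images from base change in the derived sense

`nonempty_natIso_of_BC`: for a square `c : E' ⋙ L₂ ≅ L ⋙ E` of exact functors, `adj : L ⊣ G`,
`adj₂ : L₂ ⊣ G₂`, and a class `P` of objects with `(sq c).BC (X[0])` for `X` in `P`:
`P.ι ⋙ R^n G ⋙ E' ≅ P.ι ⋙ E ⋙ R^n G₂`.
-/

set_option autoImplicit false
set_option linter.unusedSectionVars false

noncomputable section

namespace Groth.Agent.An.H862.Fin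

open CategoryTheory Category Limits Pretriangulated Triangulated DerivedCategory ZeroObject
open Groth.Agent.Etrest Groth.Agent.Etrest.RDer3 Groth.Agent.Etrest.RDer4 Groth.Agent.Etrest.RDer5
open Groth.Agent.Sga4h.RPair

universe w w' w'' w''' v v' v'' v''' u u' u'' u'''

variable {A : Type u} [Category.{v} A] [Abelian A] [HasDerivedCategory.{w} A]
  {B : Type u'} [Category.{v'} B] [Abelian B] [HasDerivedCategory.{w'} B]
  {A₂ : Type u''} [Category.{v''} A₂] [Abelian A₂] [HasDerivedCategory.{w''} A₂]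
  {B₂ : Type u'''} [Category.{v'''} B₂] [Abelian B₂] [HasDerivedCategory.{w'''} B₂]
  {L : B ⥤ A} [L.Additive] [PreservesFiniteLimits L] [PreservesFiniteColimits L]
  {L₂ : B₂ ⥤ A₂} [L₂.Additive] [PreservesFiniteLimits L₂] [PreservesFiniteColimits L₂]
  {E : A ⥤ A₂} [E.Additive] [PreservesFiniteLimits E] [PreservesFiniteColimits E]
  {E' : B ⥤ B₂} [E'.Additive] [PreservesFiniteLimits E'] [PreservesFiniteColimits E']

variable [HasKInj A] {G : A ⥤ B} [G.Additive] (adj : L ⊣ G)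
  [HasKInj A₂] {G₂ : A₂ ⥤ B₂} [G₂.Additive] (adj₂ : L₂ ⊣ G₂) (c : E' ⋙ L₂ ≅ L ⋙ E)

/-- `R^n G ⋙ E' ≅ single ⋙ TR G ⋙ E' ⋙ H^n`. -/
def leftIso [EnoughInjectives A] (n : ℕ) :
    singleFunctor A 0 ⋙ TR G ⋙ E'.mapDerivedCategory ⋙ homologyFunctor B₂ (n : ℤ) ≅
      G.rightDerived n ⋙ E' :=
  Functor.isoWhiskerLeft (singleFunctor A 0) (Functor.isoWhiskerLeft (TR G)
    (Groth.Agent.Dcoh.MapDer.homologyMapDer E' n)) ≪≫
    Functor.isoWhiskerRight (HTRsingle G n) E'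

/-- `single ⋙ E ⋙ TR G₂ ⋙ H^n ≅ E ⋙ R^n G₂`. -/
def rightIso [EnoughInjectives A₂] (n : ℕ) :
    singleFunctor A 0 ⋙ E.mapDerivedCategory ⋙ TR G₂ ⋙ homologyFunctor B₂ (n : ℤ) ≅
      E ⋙ G₂.rightDerived n :=
  Functor.isoWhiskerRight (E.mapDerivedCategorySingleFunctor 0) (TR G₂ ⋙ homologyFunctor B₂ (n : ℤ)) ≪≫
    Functor.isoWhiskerLeft E (HTRsingle G₂ n)

include adj adj₂ in
/-- Base change in the derived sense gives natural isomorphisms on higher direct images. -/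
theorem nonempty_natIso_of_BC [EnoughInjectives A] [EnoughInjectives A₂] (P : ObjectProperty A)
    (h : ∀ X, P X → (sq c).BC ((singleFunctor A 0).obj X)) (n : ℕ) :
    Nonempty (P.ι ⋙ G.rightDerived n ⋙ E' ≅ P.ι ⋙ E ⋙ G₂.rightDerived n) := by
  have hb : ∀ X : P.FullSubcategory,
      IsIso ((bcD (mate adj adj₂ c.hom)).app ((singleFunctor A 0).obj X.obj)) :=
    fun X => (bc_iff adj adj₂ c _).1 (h X.obj X.property)
  have e : P.ι ⋙ singleFunctor A 0 ⋙ TR G ⋙ E'.mapDerivedCategory ≅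
      P.ι ⋙ singleFunctor A 0 ⋙ E.mapDerivedCategory ⋙ TR G₂ :=
    NatIso.ofComponents (fun X => @asIso _ _ _ _
      ((bcD (mate adj adj₂ c.hom)).app ((singleFunctor A 0).obj X.obj)) (hb X))
      (fun {X Y} f => (bcD (mate adj adj₂ c.hom)).naturality ((singleFunctor A 0).map f.hom))
  exact ⟨(Functor.isoWhiskerLeft P.ι (leftIso n)).symm ≪≫
    Functor.isoWhiskerRight e (homologyFunctor B₂ (n : ℤ)) ≪≫
    Functor.isoWhiskerLeft P.ι (rightIso n)⟩

end Groth.Agent.An.H862.Fin
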