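import Groth.Agent.An.H862.Calc4219
import Groth.Agent.An.H895.FinalComp

/-!
# The comparison theorem on `H^q` for constructible sheaves from its inputs
-/

set_option autoImplicit false
set_option linter.unusedSectionVars false
open CategoryTheory CategoryTheory.Limits AlgebraicGeometry Opposite TopologicalSpace Topology An

attribute [-instance] AlgebraicGeometry.specOverSpec
attribute [local instance] HasDerivedCategory.standard

noncomputable section
namespace Groth.Agent.An.H862.Hcmp4223

open Groth.Agent.Etrest.DEtPush Groth.Agent.Sga4h.AdmCx Groth.Agent.Sga4h.IndCalc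
  Groth.Agent.An.H891.ClSq Groth.Agent.An.H891.CompSq Groth.Agent.An.H862.Calc4219

/-- The comparison theorem for `H^q`. -/
theorem hcmp_of (HP : ProperIn) (hgm : ∀ m, 0 < m → GmIn m) (hmain : MainIn)
    (X : Scheme.{0}) [X.Over An.SC] [LocallyOfFiniteType (X ↘ An.SC)] [QuasiCompact (X ↘ An.SC)]
    (F : EtCoh.Ab X) (hF : EtPBC.IsConstructible F) (q : ℕ) :
    Function.Bijective (An.Hcmp X F q) :=
  Groth.Agent.An.H895.FinalComp.hcmp_bijective_of_comp X F
    (comp_of_constructible HP hgm hmain (X ↘ An.SC) F hF) q

end Groth.Agent.An.H862.Hcmp4223
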