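import Groth.Agent.Etrest.RDer5
import Groth.Agent.EtpbcA.KilledCat
import Mathlib.Algebra.Homology.DerivedCategory.SingleTriangle

/-!
# Derived base change transformations on objects killed by an integer

* `isIso_bcD_of_killed`: `bcD bc` is an isomorphism at `F[0]`, `F` killed by `n`, if for all injective `J`:
  `J[n]` is `G`-acyclic, `E (J[n])` is `G₂`-acyclic, and `bc` is an isomorphism at `J[n]`;
* `devissage_killed`: from primes to positive integers.
-/

set_option autoImplicit false
set_option linter.unusedSectionVars false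

noncomputable section
namespace Groth.Agent.An.H862.KilledD

open CategoryTheory CategoryTheory.Limits Pretriangulated
open Groth.Agent.Etrest.RDer2 Groth.Agent.Etrest.RDer3 Groth.Agent.Etrest.RDer4
  Groth.Agent.Etrest.RDer5 Groth.Agent.EtpbcB.NKill

universe w w' w'' w''' v v' v'' v''' u u' u'' u'''

/-- Retracts of acyclic objects are acyclic. -/
theorem isAcyc_of_retract {A : Type u} [Category.{v} A] [Abelian A] [EnoughInjectives A]
    {B : Type u'} [Category.{v'} B] [Abelian B] (G : A ⥤ B) [G.Additive] {X Y : A} (i : X ⟶ Y)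
    (r : Y ⟶ X) (hir : i ≫ r = 𝟙 X) (h : IsAcyc G Y) : IsAcyc G X := by
  intro n
  rw [IsZero.iff_id_eq_zero]
  have h1 : (G.rightDerived (n + 1)).map i ≫ (G.rightDerived (n + 1)).map r = 𝟙 _ := by
    rw [← Functor.map_comp, hir, CategoryTheory.Functor.map_id]
  rw [← h1, (h n).eq_of_tgt ((G.rightDerived (n + 1)).map i) 0, zero_comp]

theorem isIso_app_of_retract {A : Type u} [Category.{v} A] {B : Type u'} [Category.{v'} B]
    {G H : A ⥤ B} (τ : G ⟶ H) {X Y : A} (i : X ⟶ Y) (r : Y ⟶ X) (hir : i ≫ r = 𝟙 X)
    (h : IsIso (τ.app Y)) : IsIso (τ.app X) := by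
  have rr : RetractArrow (τ.app X) (τ.app Y) :=
    { i := Arrow.homMk (G.map i) (H.map i) (τ.naturality i)
      r := Arrow.homMk (G.map r) (H.map r) (τ.naturality r)
      retract := by
        ext
        · simp [← Functor.map_comp, hir]
        · simp [← Functor.map_comp, hir] }
  have h' : MorphismProperty.isomorphisms _ (τ.app Y) := h
  exact MorphismProperty.of_retract rr h'

section bc

variable {A : Type u} [Category.{v} A] [Abelian A] [HasDerivedCategory.{w} A] [HasKInj A]
  {B : Type u'} [Category.{v'} B] [Abelian B] [HasDerivedCategory.{w'} B]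
  {A₂ : Type u''} [Category.{v''} A₂] [Abelian A₂] [HasDerivedCategory.{w''} A₂] [HasKInj A₂]
  {B₂ : Type u'''} [Category.{v'''} B₂] [Abelian B₂] [HasDerivedCategory.{w'''} B₂]
  {G : A ⥤ B} [G.Additive] [PreservesFiniteLimits G] {G₂ : A₂ ⥤ B₂} [G₂.Additive] [PreservesFiniteLimits G₂]
  {E : A ⥤ A₂} [E.Additive] [PreservesFiniteLimits E] [PreservesFiniteColimits E]
  {E' : B ⥤ B₂} [E'.Additive] [PreservesFiniteLimits E'] [PreservesFiniteColimits E']
  (bc : G ⋙ E' ⟶ E ⋙ G₂) [EnoughInjectives A] [EnoughInjectives A₂]

/-- The derived base change transformation is an isomorphism on objects killed by `n`. -/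
theorem isIso_bcD_of_killed (n : ℕ)
    (h1 : ∀ (J : A) [Injective J], IsAcyc G (tor n J))
    (h2 : ∀ (J : A) [Injective J], IsAcyc G₂ (E.obj (tor n J)))
    (h3 : ∀ (J : A) [Injective J], IsIso (bc.app (tor n J)))
    (F : A) (hF : Killed n F) : IsIso ((bcD bc).app ((DerivedCategory.singleFunctor A 0).obj F)) := by
  obtain ⟨I, i, hi, hI, hK⟩ := Groth.Agent.EtpbcA.KilledCat.exists_resolution (n := n)
    ((CochainComplex.singleFunctor A 0).obj F) 0 (fun m => by
      by_cases hm : m = 0
      · subst hm
        have e := HomologicalComplex.singleObjXSelf (ComplexShape.up ℤ) (0 : ℤ) F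
        exact killed_of_mono (X := ((CochainComplex.singleFunctor A 0).obj F).X 0) e.hom hF
      · have hz : IsZero (((CochainComplex.singleFunctor A 0).obj F).X m) :=
          HomologicalComplex.isZero_single_obj_X (ComplexShape.up ℤ) 0 F m hm
        exact hz.eq_of_src _ _)
  have e : DerivedCategory.Q.obj I ≅ (DerivedCategory.singleFunctor A 0).obj F :=
    (asIso (DerivedCategory.Q.map i)).symm
  have key : ∀ m, ∃ (J : A) (_ : Injective J) (i : I.X m ⟶ tor n J) (r : tor n J ⟶ I.X m), i ≫ r = 𝟙 _ :=
    fun m => exists_retract (hK m).1 (hK m).2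
  refine isIso_bcD_of_iso _ e (isIso_bcD_Q_of_isAcyc _ I 0 (fun m => ?_) (fun m => ?_) (fun m => ?_))
  · obtain ⟨J, _, i, r, hir⟩ := key m
    exact isAcyc_of_retract _ i r hir (h1 J)
  · obtain ⟨J, _, i, r, hir⟩ := key m
    exact isAcyc_of_retract _ (E.map i) (E.map r)
      (by rw [← Functor.map_comp, hir, CategoryTheory.Functor.map_id]) (h2 J)
  · obtain ⟨J, _, i, r, hir⟩ := key m
    exact isIso_app_of_retract _ i r hir (h3 J)

end bc

section devissage

variable {A : Type u} [Category.{v} A] [Abelian A] [HasDerivedCategory.{w} A]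

/-- Devissage: from primes to positive integers. -/
theorem devissage_killed (P : DerivedCategory A → Prop) (h0 : ∀ K, IsZero K → P K)
    (h2 : ∀ T : Triangle (DerivedCategory A), T ∈ distTriang _ → P T.obj₁ → P T.obj₃ → P T.obj₂)
    (n : ℕ) (hn : 0 < n) (h : ∀ (l : ℕ), l.Prime → l ∣ n → ∀ (F : A), Killed l F →
      P ((DerivedCategory.singleFunctor A 0).obj F)) (F : A) (hF : Killed n F) :
    P ((DerivedCategory.singleFunctor A 0).obj F) := by
  induction n using Nat.strong_induction_on generalizing F with
  | _ n ih =>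
    by_cases h1 : n = 1
    · subst h1
      refine h0 _ ?_
      apply Functor.map_isZero
      unfold Killed at hF
      rw [one_smul] at hF
      exact (IsZero.iff_id_eq_zero _).2 hF
    · obtain ⟨l, hlp, m, rfl⟩ := Nat.exists_prime_and_dvd h1
      have hm : 0 < m := Nat.pos_of_ne_zero (by rintro rfl; simp at hn)
      have hlt : m < l * m := by nlinarith [hlp.two_le]
      let S : ShortComplex A := ShortComplex.mk (torι l F) (cokernel.π (torι l F)) (cokernel.condition _)
      have hS : S.ShortExact :=
        { exact := ShortComplex.exact_cokernel _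
          mono_f := inferInstanceAs (Mono (kernel.ι _))
          epi_g := inferInstanceAs (Epi (cokernel.π _)) }
      have hk : Killed m (cokernel (torι l F)) := by
        unfold Killed
        rw [← cancel_epi (cokernel.π (torι l F)), comp_nsmul_id, comp_zero]
        have h2 : l • (m • 𝟙 F) = 0 := by
          rw [← mul_smul]; exact hF
        have h3 : torLift (m • 𝟙 F) h2 ≫ torι l F = m • 𝟙 F := torLift_ι _ _
        rw [← nsmul_id_comp, ← h3, Category.assoc, cokernel.condition, comp_zero]
      exact h2 _ hS.singleTriangle_distinguished (h l hlp (dvd_mul_right l m) _ (killed_tor l F))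
        (ih m hlt hm (fun l' hl' hd => h l' hl' (hd.trans (dvd_mul_left m l))) _ hk)

end devissage

end Groth.Agent.An.H862.KilledD
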