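import Groth.Agent.An.H862.KilledD
import Groth.Agent.An.H891.CompSq
import Groth.Agent.An.H890.Theta
import Groth.Agent.EtpbcB.NKillEt

/-!
# `Comp f K` from degree zero comparison and acyclicity

* `bet0_app`: the degree zero comparison is helper890's `theta`;
* `comp_of_killed_complex`: `Comp f K` for `K` bounded below with cohomology sheaves killed by positive
  integers, from: `theta f` is an isomorphism on torsion sheaves, and `R^q f(ℂ)_* (ε^* J[l]) = 0` for `q > 0`,
  `J` injective, `l` prime.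
-/

set_option autoImplicit false
set_option linter.unusedSectionVars false
open CategoryTheory CategoryTheory.Limits AlgebraicGeometry Opposite TopologicalSpace Topology An

attribute [local instance] HasDerivedCategory.standard

noncomputable section
namespace Groth.Agent.An.H862.PropD

open Groth.Agent.Etrest.RDer2 Groth.Agent.Etrest.RDer3 Groth.Agent.Etrest.RDer4
  Groth.Agent.Etrest.RDer5 Groth.Agent.Etrest.DEtPush Groth.Agent.EtpbcB.NKill
  Groth.Agent.An.H891.Geom Groth.Agent.An.H891.ClSq Groth.Agent.An.H891.CompSq Groth.Agent.EtpbcB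

variable {X S : Scheme.{0}} [X.Over An.SC] [S.Over An.SC] [LocallyOfFiniteType (X ↘ An.SC)]
  [LocallyOfFiniteType (S ↘ An.SC)] (f : X ⟶ S) [f.IsOver An.SC]

theorem bet0_app (F : EtCoh.Ab X) :
    (bet0 f).app F = (Groth.Agent.An.H890.Theta.theta f).app F := by
  refine Groth.Agent.An.H890.Mates.eq_bcOf_app (An.epsAdj X) (An.epsAdj S) _ _ ?_
  exact MateCalc.unit_bc (An.epsAdj S) (An.epsAdj X) (gam f).hom F

/-- The comparison for sheaves killed by a prime. -/
theorem comp_of_killed_prime (l : ℕ) (hl : l.Prime)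
    (ha : ∀ (J : EtCoh.Ab X) [Injective J], IsIso ((bet0 f).app (tor l J)))
    (hb : ∀ (J : EtCoh.Ab X) [Injective J] (q : ℕ), 0 < q →
      IsZero (((clPush (An.Pts.mapC f)).rightDerived q).obj ((An.epsPull X).obj (tor l J))))
    (F : EtCoh.Ab X) (hF : Killed l F) : Comp f ((DerivedCategory.singleFunctor _ 0).obj F) := by
  rw [Comp_iff]
  refine KilledD.isIso_bcD_of_killed (bet0 f) l (fun J _ => fun n => ?_) (fun J _ => fun n => ?_)
    (fun J _ => ha J) F hF
  · exact Groth.Agent.EtpbcB.NKillEt.isZero_Rpush_of_nInj f hl.pos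
      ((Groth.Agent.EtpbcB.NKillEt.killedBy_iff l _).2 (killed_tor l J)) (nInj_tor l J) (n + 1) n.succ_pos
  · exact hb J (n + 1) n.succ_pos

theorem isTorsion_of_killedBy (n : ℕ) (hn : 0 < n) {F : EtCoh.Ab X} (hF : EtCoh.KilledBy n F) :
    EtCoh.IsTorsion F := by
  intro U s x
  exact ⟨U, 𝟙 U, ⟨x, rfl⟩, isOfFinAddOrder_iff_nsmul_eq_zero.2 ⟨n, hn, hF U _⟩⟩

theorem isTorsion_tor (l : ℕ) (hl : 0 < l) (J : EtCoh.Ab X) : EtCoh.IsTorsion (tor l J) :=
  isTorsion_of_killedBy l hl ((Groth.Agent.EtpbcB.NKillEt.killedBy_iff l _).2 (killed_tor l J))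

/-- The comparison for sheaves killed by a positive integer. -/
theorem comp_of_killed
    (ha : ∀ F : EtCoh.Ab X, EtCoh.IsTorsion F → IsIso ((Groth.Agent.An.H890.Theta.theta f).app F))
    (hb : ∀ (J : EtCoh.Ab X) [Injective J] (l : ℕ), l.Prime → ∀ q : ℕ, 0 < q →
      IsZero (((clPush (An.Pts.mapC f)).rightDerived q).obj ((An.epsPull X).obj (tor l J))))
    (n : ℕ) (hn : 0 < n) (F : EtCoh.Ab X) (hF : EtCoh.KilledBy n F) :
    Comp f ((DerivedCategory.singleFunctor _ 0).obj F) :=
  KilledD.devissage_killed (fun L => Comp f L) (fun _ => Comp.of_isZero)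
    (fun _ hT => Comp.two hT) n hn
    (fun l hl _ G hG => comp_of_killed_prime f l hl
      (fun J _ => by rw [bet0_app]; exact ha _ (isTorsion_tor l hl.pos J)) (fun J _ q hq => hb J l hl q hq)
      G hG) _
    ((Groth.Agent.EtpbcB.NKillEt.killedBy_iff n _).1 hF)

/-- The comparison for bounded below complexes with cohomology sheaves killed by positive integers. -/
theorem comp_of_killed_complex
    (ha : ∀ F : EtCoh.Ab X, EtCoh.IsTorsion F → IsIso ((Groth.Agent.An.H890.Theta.theta f).app F))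
    (hb : ∀ (J : EtCoh.Ab X) [Injective J] (l : ℕ), l.Prime → ∀ q : ℕ, 0 < q →
      IsZero (((clPush (An.Pts.mapC f)).rightDerived q).obj ((An.epsPull X).obj (tor l J))))
    (K : DCoh.DEt X) (a : ℤ) [K.IsGE a]
    (hK : ∀ n : ℤ, ∃ m : ℕ, 0 < m ∧ EtCoh.KilledBy m (DCoh.HDEt K n)) : Comp f K :=
  comp_of_homology K a (fun n => by
    obtain ⟨m, hm, hk⟩ := hK n
    exact comp_of_killed f ha hb m hm _ hk)

end Groth.Agent.An.H862.PropD
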