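import Groth.Agent.An.H862.Asm4219
import Groth.Agent.An.H862.PropD

/-!
# The field `proper` of the comparison calculus

* `PCIn f`: the two inputs for `f` (degree zero comparison on torsion sheaves; acyclicity of `ε^* J[l]`);
* `comp_of_adm`: `Comp f K` for admissible `K` from `PCIn f`;
* `proper`: the field `proper` of `CompCalc` for `P = CP`, from `PCIn` for all proper morphisms.
-/

set_option autoImplicit false
set_option linter.unusedSectionVars false
open CategoryTheory CategoryTheory.Limits AlgebraicGeometry Opposite TopologicalSpace Topology An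

attribute [local instance] HasDerivedCategory.standard

noncomputable section
namespace Groth.Agent.An.H862.ProperField

open Groth.Agent.Etrest.DEtPush Groth.Agent.Sga4h.AdmCx Groth.Agent.Sga4h.IndCalc
  Groth.Agent.An.H891.ClSq Groth.Agent.An.H891.CompSq Groth.Agent.EtpbcB.NKill

/-- The inputs for the comparison of `Rf_*` on killed sheaves. -/
structure PCIn {X S : Scheme.{0}} [X.Over An.SC] [S.Over An.SC] [LocallyOfFiniteType (X ↘ An.SC)]
    [LocallyOfFiniteType (S ↘ An.SC)] (f : X ⟶ S) [f.IsOver An.SC] : Prop where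
  deg0 : ∀ F : EtCoh.Ab X, EtCoh.IsTorsion F → IsIso ((Groth.Agent.An.H890.Theta.theta f).app F)
  acyc : ∀ (J : EtCoh.Ab X) [Injective J] (l : ℕ), l.Prime → ∀ q : ℕ, 0 < q →
    IsZero (((clPush (An.Pts.mapC f)).rightDerived q).obj ((An.epsPull X).obj (tor l J)))

theorem comp_of_adm {X S : Scheme.{0}} [X.Over An.SC] [S.Over An.SC]
    [LocallyOfFiniteType (X ↘ An.SC)] [LocallyOfFiniteType (S ↘ An.SC)] (f : X ⟶ S) [f.IsOver An.SC]
    (H : PCIn f) (m : ℕ) (hm : 0 < m) (K : DCoh.DEt X) (hK : Adm m K) : Comp f K := by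
  obtain ⟨a, ha⟩ := hK.ge
  refine PropD.comp_of_killed_complex f H.deg0 (fun J _ l hl q hq => H.acyc J l hl q hq) K a (fun n => ?_)
  obtain ⟨-, N, hN⟩ := hK.coh n
  exact ⟨m ^ N, pow_pos hm N, hN⟩

/-- The field `proper` of the comparison calculus. -/
theorem proper (H : ∀ {X S : Scheme.{0}} [X.Over An.SC] [S.Over An.SC]
    [LocallyOfFiniteType (X ↘ An.SC)] [LocallyOfFiniteType (S ↘ An.SC)] (f : X ⟶ S) [f.IsOver An.SC]
    [IsProper f], PCIn f) (m : ℕ) (hm : 0 < m) {Y Z : Scheme.{0}} (s : Z ⟶ An.SC) (g : Y ⟶ Z)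
    [FT s] [IsProper g] (K : DCoh.DEt Y) (hK : Adm m K) : Asm4219.CP s g K := by
  intro _ _ _
  letI : Y.Over An.SC := ⟨g ≫ s⟩
  letI : Z.Over An.SC := ⟨s⟩
  haveI : g.IsOver An.SC := ⟨rfl⟩
  haveI : LocallyOfFiniteType (Y ↘ An.SC) := inferInstanceAs (LocallyOfFiniteType (g ≫ s))
  haveI : LocallyOfFiniteType (Z ↘ An.SC) := inferInstanceAs (LocallyOfFiniteType s)
  exact comp_of_adm g (H g) m hm K hK

end Groth.Agent.An.H862.ProperField
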